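import Groth.Agent.HenselLib.Local
import Mathlib

/-! Galois extensions of complete local normal domains: trivial inertia and unramifiedness. -/

set_option autoImplicit false
universe u

noncomputable section

namespace GalCompleteLib

open IsLocalRing
open scoped Pointwise Matrix

theorem isLocalRing_of_finite_domain {R : Type u} [CommRing R] [HenselianLocalRing R] (B : Type u)
    [CommRing B] [IsDomain B] [Algebra R B] [Module.Finite R B] : IsLocalRing B := by
  classical
  obtain ⟨ι, _, L, _, hL, ⟨e⟩⟩ := HenselLib.exists_pi_local (R := R) B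
  haveI := hL
  refine IsLocalRing.of_isUnit_or_isUnit_one_sub_self fun a => ?_
  have hsub : ∀ i j : ι, i = j := by
    intro i j
    by_contra hne
    have h1 : e.symm (Pi.single i 1) * e.symm (Pi.single j 1) = 0 := by
      rw [← map_mul, show (Pi.single i (1 : L i) * Pi.single j (1 : L j) : ∀ k, L k) = 0 from funext fun k => by
        by_cases hk : k = i
        · subst hk; simp [hne]
        · simp [hk], map_zero]
    rcases mul_eq_zero.1 h1 with h | h
    · exact one_ne_zero (α := L i) (by simpa using congrFun (congrArg e h) i)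
    · exact one_ne_zero (α := L j) (by simpa using congrFun (congrArg e h) j)
  obtain hι | ⟨⟨i⟩⟩ := isEmpty_or_nonempty ι
  · exact absurd (e.injective (funext fun i => hι.elim i) : (1 : B) = 0) one_ne_zero
  have key : ∀ b : B, IsUnit (e b i) → IsUnit b := fun b hb => by
    obtain ⟨c, hc⟩ := isUnit_iff_exists_inv.1 hb
    refine isUnit_iff_exists_inv.2 ⟨e.symm (Pi.single i c), e.injective (funext fun k => ?_)⟩
    obtain rfl := hsub i k
    simp [hc]
  refine (IsLocalRing.isUnit_or_isUnit_one_sub_self (e a i)).imp (key a) fun h => key _ ?_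
  simpa using h

theorem isLocalRing_of_integral_domain {R : Type u} [CommRing R] [HenselianLocalRing R] (B : Type u)
    [CommRing B] [IsDomain B] [Algebra R B] [Algebra.IsIntegral R B] : IsLocalRing B := by
  refine IsLocalRing.of_isUnit_or_isUnit_one_sub_self fun a => ?_
  let T := Algebra.adjoin R {a}
  have : Module.Finite R T := Module.Finite.iff_fg.2 (Algebra.IsIntegral.isIntegral a).fg_adjoin_singleton
  haveI := isLocalRing_of_finite_domain (R := R) T
  rcases IsLocalRing.isUnit_or_isUnit_one_sub_self (⟨a, Algebra.self_mem_adjoin_singleton R a⟩ : T) with h1 | h1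
  · exact Or.inl (h1.map T.val)
  · exact Or.inr (by simpa using h1.map T.val)

variable {R S G : Type u} [CommRing R] [CommRing S] [IsLocalRing R] [IsLocalRing S] [Algebra R S]
  [Group G] [MulSemiringAction G S]

theorem smul_mem_max (g : G) {x : S} (hx : x ∈ maximalIdeal S) : g • x ∈ maximalIdeal S := fun hu => hx (by
  simpa using hu.map (MulSemiringAction.toRingHom G S g⁻¹))

/-- Residue of the translate by `g`. -/
def σ (g : G) : S →+* ResidueField S := (residue S).comp (MulSemiringAction.toRingHom G S g)

theorem σ_injective (hI : ∀ g : G, (∀ x : S, g • x - x ∈ maximalIdeal S) → g = 1) :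
    Function.Injective (σ (S := S) (G := G)) := by
  intro g h hgh
  refine (inv_mul_eq_one.1 (hI (h⁻¹ * g) fun x => ?_)).symm
  have h1 : g • x - h • x ∈ maximalIdeal S := by
    rw [← residue_eq_zero_iff, map_sub]
    exact sub_eq_zero.2 (RingHom.congr_fun hgh x)
  have h2 := smul_mem_max h⁻¹ h1
  rwa [smul_sub, ← mul_smul, inv_smul_smul] at h2

variable [Fintype G] [DecidableEq G]

/-- A family whose conjugate matrix is invertible modulo the maximal ideal. -/
theorem exists_matrix (hI : ∀ g : G, (∀ x : S, g • x - x ∈ maximalIdeal S) → g = 1) :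
    ∃ s : G → S, IsUnit (Matrix.of fun g h : G => g • s h).det := by
  let v : S → (G → ResidueField S) := fun x g => σ g x
  have hli : LinearIndependent (ResidueField S) fun g : G => ((σ g : S →+* ResidueField S) : S → ResidueField S) :=
    (linearIndependent_monoidHom S (ResidueField S)).comp (fun g => ((σ g : S →+* ResidueField S) : S →* ResidueField S))
      fun a b h => σ_injective hI (RingHom.ext fun x => DFunLike.congr_fun h x)
  have hspan : Submodule.span (ResidueField S) (Set.range v) = ⊤ := by
    by_contra hne
    obtain ⟨f, hf, hker⟩ := Submodule.exists_dual_map_eq_bot_of_lt_top (lt_top_iff_ne_top.2 hne) inferInstance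
    have hc : ∀ g, f (Pi.single g 1) = 0 := Fintype.linearIndependent_iff.1 hli (fun g => f (Pi.single g 1)) (funext fun x => by
      have h1 : f (v x) = 0 := (Submodule.eq_bot_iff _).1 hker _ (Submodule.mem_map_of_mem (Submodule.subset_span ⟨x, rfl⟩))
      rw [pi_eq_sum_univ (v x), map_sum] at h1
      simp only [map_smul] at h1
      rw [Finset.sum_apply, Pi.zero_apply, ← h1]
      refine Finset.sum_congr rfl fun g _ => ?_
      rw [Pi.smul_apply, smul_eq_mul, smul_eq_mul, mul_comm]
      congr 2
      ext j; simp [Pi.single_apply, eq_comm])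
    exact hf (LinearMap.ext fun y => by
      rw [pi_eq_sum_univ y, map_sum, LinearMap.zero_apply]
      refine Finset.sum_eq_zero fun g _ => ?_
      rw [map_smul, show (fun j => if g = j then (1 : ResidueField S) else 0) = Pi.single g 1 from funext fun j => by
        simp [Pi.single_apply, eq_comm], hc, smul_zero])
  obtain ⟨w, hw⟩ : ∃ w : G → S, LinearIndependent (ResidueField S) fun h => v (w h) := by
    obtain ⟨b, hb, hbs, hbl⟩ := exists_linearIndependent (ResidueField S) (Set.range v)
    let B := Module.Basis.mk hbl (by rw [Subtype.range_coe, hbs, hspan])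
    let e := B.indexEquiv (Pi.basisFun (ResidueField S) G)
    choose w hw using fun h => hb (e.symm h).2
    refine ⟨w, ?_⟩
    simp only [hw]
    exact hbl.comp _ e.symm.injective
  refine ⟨w, by_contra fun hn => ?_⟩
  have h1 := (residue_eq_zero_iff (Matrix.of fun g h : G => g • w h).det).2 hn
  rw [RingHom.map_det] at h1
  have h2 : IsUnit ((residue S).mapMatrix (Matrix.of fun g h : G => g • w h)) :=
    Matrix.linearIndependent_cols_iff_isUnit.1 hw
  exact ((Matrix.isUnit_iff_isUnit_det _).1 h2).ne_zero h1

variable [SMulCommClass G R S] [Algebra.IsInvariant R S G]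

/-- Coordinates along such a family lie in the base. -/
theorem coeff {s : G → S} (hs : IsUnit (Matrix.of fun g h : G => g • s h).det) (x : S) :
    ∃ c : G → R, x = ∑ h, c h • s h ∧ ∀ g : G,
      (fun h => algebraMap R S (c h)) g = ((Matrix.of fun g h : G => g • s h)⁻¹ *ᵥ fun g => g • x) g := by
  let M := Matrix.of fun g h : G => g • s h
  let c := M⁻¹ *ᵥ fun g => g • x
  have hMc : ∀ g : G, ∑ h, (g • s h) * c h = g • x := fun g => by
    have h1 : M *ᵥ c = fun g => g • x := by
      rw [Matrix.mulVec_mulVec, Matrix.mul_nonsing_inv _ hs, Matrix.one_mulVec]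
    exact congrFun h1 g
  have hfix : ∀ γ : G, (fun h => γ • c h) = c := fun γ => by
    refine Matrix.mulVec_injective_of_isUnit ((Matrix.isUnit_iff_isUnit_det _).2 hs) (funext fun g => ?_)
    have h1 := congrArg (γ • ·) (hMc (γ⁻¹ * g))
    simp only [Finset.smul_sum, smul_mul', ← mul_smul, mul_inv_cancel_left] at h1
    exact h1.trans (hMc g).symm
  choose a ha using fun h => Algebra.IsInvariant.isInvariant (A := R) (c h) fun γ => congrFun (hfix γ) h
  refine ⟨a, ?_, fun g => ha g⟩
  have h1 := hMc 1
  simp only [one_smul] at h1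
  conv_lhs => rw [← h1]
  exact Finset.sum_congr rfl fun h _ => by rw [Algebra.smul_def, ha, mul_comm]

variable [IsLocalHom (algebraMap R S)]

/-- Trivial inertia implies finite unramified. -/
theorem unramified_of_inertia (hI : ∀ g : G, (∀ x : S, g • x - x ∈ maximalIdeal S) → g = 1) :
    Module.Finite R S ∧ (maximalIdeal R).map (algebraMap R S) = maximalIdeal S ∧
      Algebra.IsSeparable (ResidueField R) (ResidueField S) := by
  classical
  obtain ⟨s, hs⟩ := exists_matrix hI
  have hfin : Module.Finite R S := ⟨⟨Finset.univ.image s, eq_top_iff.2 fun x _ => by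
    obtain ⟨c, hc, -⟩ := coeff (R := R) hs x
    rw [hc]
    exact sum_mem fun h _ => Submodule.smul_mem _ _ (Submodule.subset_span (by simp))⟩⟩
  refine ⟨hfin, le_antisymm (Ideal.map_le_iff_le_comap.2 fun a ha hu => ha (isUnit_of_map_unit _ a hu)) fun x hx => ?_, ?_⟩
  · obtain ⟨c, hc, hc'⟩ := coeff (R := R) hs x
    rw [hc]
    refine sum_mem fun h _ => ?_
    rw [Algebra.smul_def]
    refine Ideal.mul_mem_right _ _ (Ideal.mem_map_of_mem _ fun hu => ?_)
    refine (show algebraMap R S (c h) ∈ maximalIdeal S from ?_) (hu.map _)
    have h1 : algebraMap R S (c h) = _ := hc' h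
    rw [h1]
    exact sum_mem fun g _ => Ideal.mul_mem_left _ _ (smul_mem_max g hx)
  · let k := ResidueField R
    let kS := ResidueField S
    have : Module.Finite k kS := by
      refine ⟨⟨Finset.univ.image fun h => residue S (s h), eq_top_iff.2 fun y _ => ?_⟩⟩
      obtain ⟨x, rfl⟩ := residue_surjective y
      obtain ⟨c, hc, -⟩ := coeff (R := R) hs x
      rw [hc, map_sum]
      refine sum_mem fun h _ => ?_
      rw [Algebra.smul_def, map_mul, show residue S (algebraMap R S (c h)) = algebraMap k kS (residue R (c h)) from rfl,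
        ← Algebra.smul_def]
      exact Submodule.smul_mem _ _ (Submodule.subset_span (by simp))
    have hle : Module.finrank k kS ≤ Fintype.card G := by
      refine (finrank_le_of_span_eq_top (v := fun h => residue S (s h)) ?_).trans le_rfl
      refine eq_top_iff.2 fun y _ => ?_
      obtain ⟨x, rfl⟩ := residue_surjective y
      obtain ⟨c, hc, -⟩ := coeff (R := R) hs x
      rw [hc, map_sum]
      refine sum_mem fun h _ => ?_
      rw [Algebra.smul_def, map_mul, show residue S (algebraMap R S (c h)) = algebraMap k kS (residue R (c h)) from rfl,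
        ← Algebra.smul_def]
      exact Submodule.smul_mem _ _ (Submodule.subset_span ⟨h, rfl⟩)
    rw [← Field.finSepDegree_eq_finrank_iff]
    refine le_antisymm (Field.finSepDegree_le_finrank k kS) (hle.trans ?_)
    haveI : ∀ g : G, IsLocalHom (MulSemiringAction.toRingHom G S g) := fun g => ⟨fun x hx => by
      simpa using hx.map (MulSemiringAction.toRingHom G S g⁻¹)⟩
    let emb : G → Field.Emb k kS := fun g => (IsScalarTower.toAlgHom k kS (AlgebraicClosure kS)).comp
      { ResidueField.map (MulSemiringAction.toRingHom G S g) with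
        commutes' := fun z => by
          obtain ⟨a, rfl⟩ := residue_surjective z
          show residue S (g • algebraMap R S a) = residue S (algebraMap R S a)
          rw [smul_algebraMap] }
    rw [Field.finSepDegree, ← Nat.card_eq_fintype_card]
    refine Nat.card_le_card_of_injective emb fun g h hgh => σ_injective hI (RingHom.ext fun x => ?_)
    exact (algebraMap kS (AlgebraicClosure kS)).injective (DFunLike.congr_fun hgh (residue S x))

omit [Fintype G] [DecidableEq G] [Algebra.IsInvariant R S G] in
/-- Unramified implies trivial inertia. -/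
theorem eq_one_of_unramified [Module.Finite R S] [FaithfulSMul G S]
    (hm : (maximalIdeal R).map (algebraMap R S) = maximalIdeal S)
    [Module.Finite (ResidueField R) (ResidueField S)] [Algebra.IsSeparable (ResidueField R) (ResidueField S)]
    {g : G} (hg : ∀ x : S, g • x - x ∈ maximalIdeal S) : g = 1 := by
  let k := ResidueField R
  let kS := ResidueField S
  obtain ⟨θb, hθb⟩ := Field.exists_primitive_element k kS
  obtain ⟨θ, rfl⟩ := residue_surjective θb
  have hev : ∀ p : Polynomial R, residue S (Polynomial.aeval θ p) = Polynomial.aeval (residue S θ) (p.map (residue R)) := fun p => by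
    rw [Polynomial.aeval_def, Polynomial.hom_eval₂, Polynomial.aeval_def, Polynomial.eval₂_map]; rfl
  have hgen : ∀ x : S, ∃ p : Polynomial R, x - Polynomial.aeval θ p ∈ maximalIdeal S := fun x => by
    have h1 : residue S x ∈ Algebra.adjoin k {residue S θ} := by
      rw [← IntermediateField.adjoin_simple_toSubalgebra_of_isAlgebraic (Algebra.IsAlgebraic.isAlgebraic _), hθb]
      trivial
    rw [Algebra.adjoin_singleton_eq_range_aeval] at h1
    obtain ⟨q, hq⟩ := h1
    obtain ⟨p, rfl⟩ := Polynomial.map_surjective (residue R) residue_surjective q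
    exact ⟨p, by rw [← residue_eq_zero_iff, map_sub, hev, sub_eq_zero]; exact hq.symm⟩
  have htop : (Algebra.adjoin R {θ}).toSubmodule = ⊤ := by
    refine top_le_iff.1 (Submodule.le_of_le_smul_of_le_jacobson_bot (I := maximalIdeal R) Module.Finite.fg_top
      (IsLocalRing.maximalIdeal_le_jacobson _) fun x _ => ?_)
    obtain ⟨p, hp⟩ := hgen x
    rw [← hm] at hp
    rw [show x = Polynomial.aeval θ p + (x - Polynomial.aeval θ p) by ring]
    refine Submodule.add_mem_sup ?_ ?_
    · exact Polynomial.aeval_mem_adjoin_singleton R θ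
    · rw [Ideal.smul_top_eq_map]; exact hp
  let δ := g • θ - θ
  have hdiff : ∀ y : S, ∃ c, g • y - y = δ * c := fun y => by
    have h1 : y ∈ Algebra.adjoin R {θ} := by
      rw [← Subalgebra.mem_toSubmodule, htop]; trivial
    rw [Algebra.adjoin_singleton_eq_range_aeval] at h1
    obtain ⟨p, rfl⟩ := h1
    obtain ⟨c, hc⟩ := Polynomial.sub_dvd_eval_sub (g • θ) θ (p.map (algebraMap R S))
    refine ⟨c, ?_⟩
    rw [← hc, Polynomial.eval_map_algebraMap, Polynomial.eval_map_algebraMap]
    congr 1
    exact (Polynomial.aeval_algHom_apply (MulSemiringAction.toAlgHom R S g) θ p).symm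
  obtain ⟨f, hf, -, hfm⟩ := Polynomial.lifts_and_natDegree_eq_and_monic (f := residue R) (p := minpoly k (residue S θ))
    ((Polynomial.mem_lifts _).2 (Polynomial.map_surjective (residue R) residue_surjective _))
    (minpoly.monic (Algebra.IsIntegral.isIntegral _))
  have hf0 : Polynomial.aeval θ f ∈ maximalIdeal S := by
    rw [← residue_eq_zero_iff, hev, hf, minpoly.aeval]
  have hf1 : Polynomial.aeval θ f.derivative ∉ maximalIdeal S := by
    rw [← residue_eq_zero_iff, hev, ← Polynomial.derivative_map, hf]
    exact (Algebra.IsSeparable.isSeparable k (residue S θ)).aeval_derivative_ne_zero (minpoly.aeval _ _)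
  obtain ⟨c, hc⟩ := Polynomial.binomExpansion (f.map (algebraMap R S)) θ δ
  rw [Polynomial.derivative_map, Polynomial.eval_map_algebraMap, Polynomial.eval_map_algebraMap,
    Polynomial.eval_map_algebraMap, show θ + δ = g • θ by ring,
    show Polynomial.aeval (g • θ) f = g • Polynomial.aeval θ f from Polynomial.aeval_algHom_apply (MulSemiringAction.toAlgHom R S g) θ f] at hc
  have hmove : ∀ y ∈ (maximalIdeal R).map (algebraMap R S), g • y - y ∈ Ideal.span {δ} * (maximalIdeal R).map (algebraMap R S) := by
    intro y hy
    induction hy using Submodule.span_induction with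
    | mem y hy =>
      obtain ⟨a, -, rfl⟩ := hy
      rw [smul_algebraMap, sub_self]; exact zero_mem _
    | zero => simp
    | add y z _ _ hy hz =>
      rw [smul_add, add_sub_add_comm]; exact add_mem hy hz
    | smul r y hy hyy =>
      obtain ⟨e, he⟩ := hdiff r
      rw [smul_eq_mul, smul_mul', show g • r * g • y - r * y = (g • r) * (g • y - y) + (g • r - r) * y by ring, he]
      exact add_mem (Ideal.mul_mem_left _ _ hyy) (Ideal.mul_mem_mul (Ideal.mul_mem_right _ _ (Ideal.mem_span_singleton_self δ)) hy)
  have h2 := hmove _ (hm ▸ hf0)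
  rw [hm, Ideal.mem_span_singleton_mul] at h2
  obtain ⟨z, hz, hz'⟩ := h2
  have hunit : IsUnit (Polynomial.aeval θ f.derivative + c * δ - z) := by
    by_contra hn
    refine hf1 ?_
    rw [show Polynomial.aeval θ f.derivative = (Polynomial.aeval θ f.derivative + c * δ - z) - c * δ + z by ring]
    exact add_mem (sub_mem hn (Ideal.mul_mem_left _ _ (hg θ))) hz
  have hδ : δ = 0 := by
    refine hunit.mul_left_eq_zero.1 ?_
    linear_combination -hz' - hc
  refine eq_of_smul_eq_smul (α := S) fun y => ?_
  obtain ⟨e, he⟩ := hdiff y
  rw [hδ, zero_mul, sub_eq_zero] at he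
  rw [he, one_smul]

end GalCompleteLib
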